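/-
Elements of the presented Suzuki group intertwining two given elements: checks and their meaning.
-/
import Cfsg.Agent.H29.CosetCert.SuzOrder.Cert
import Cfsg.Agent.SuzOut.Data

set_option autoImplicit false
set_option maxRecDepth 100000

namespace CfsgLib.SuzOut

open H29.CosetCert MulAction

/-- The group. -/
abbrev Sz : Type := Cfsg.Spor.Suz

/-- The action. -/
noncomputable abbrev rho : Sz →* Equiv.Perm (Fin 1782) := SuzCert.ρ

theorem finite_Sz : Finite Sz := SuzOrd.finite_card.1

theorem card_Sz : Nat.card Sz = 448345497600 := SuzOrd.injective_card.2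

open Classical in
/-- A checked permutation as an element of the group. -/
noncomputable def el (k : ℕ) : Sz :=
  if hk : k < 56 then (SuzCert.cert.elems SuzSlp.slp (by decide) SuzSlp.entries_ok k hk).choose else 1

theorem el_spec {k : ℕ} (hk : k < 56) (c : Fin 1782) :
    ((rho (el k) c : Fin 1782) : ℕ) = SuzSlp.slp.tbl k c := by
  rw [el, dif_pos hk]
  exact (SuzCert.cert.elems SuzSlp.slp (by decide) SuzSlp.entries_ok k hk).choose_spec c

/-! ### Sifting -/

/-- A lower bound from a checked chain, and what it says when it is attained. -/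
theorem chain_tight : ∀ (ls : List BaseLevel) (K : Subgroup (Equiv.Perm (Fin 1782))),
    chainOK SuzSlp.slp 1782 ls = true → (∀ l ∈ ls, ∀ u ∈ l.U, rho (el u) ∈ K) →
    (ls.map BaseLevel.sz).prod ≤ Nat.card K ∧
    ((ls.map BaseLevel.sz).prod = Nat.card K → ∀ g ∈ K,
      (∀ i < ls.length, (∀ j < i, ∀ c : Fin 1782, (c : ℕ) = (ls.getD j ⟨0, [], 0, [], 0⟩).b → g c = c) →
        ∀ c : Fin 1782, (c : ℕ) = (ls.getD i ⟨0, [], 0, [], 0⟩).b →
          (ls.getD i ⟨0, [], 0, [], 0⟩).m.testBit (g c : Fin 1782) = true) ∧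
      ((∀ j < ls.length, ∀ c : Fin 1782, (c : ℕ) = (ls.getD j ⟨0, [], 0, [], 0⟩).b → g c = c) → g = 1)) := by
  intro ls
  induction ls with
  | nil =>
    intro K _ _
    refine ⟨Nat.card_pos, fun he g hg => ⟨fun i hi => absurd hi (Nat.not_lt_zero i), fun _ => ?_⟩⟩
    simp only [List.map_nil, List.prod_nil] at he
    have : Subsingleton K := Finite.card_le_one_iff_subsingleton.1 he.symm.le
    exact congrArg Subtype.val (Subsingleton.elim (⟨g, hg⟩ : K) 1)
  | cons l rest ih =>
    intro K hl hU
    simp only [chainOK, Bool.and_eq_true, List.all_eq_true, Nat.blt_eq, beq_iff_eq] at hl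
    obtain ⟨⟨⟨⟨⟨hb, hUK⟩, hfix⟩, hgrow⟩, hcnt⟩, hrest⟩ := hl
    set b : Fin 1782 := ⟨l.b, hb⟩
    let K' : Subgroup (Equiv.Perm (Fin 1782)) := K ⊓ MulAction.stabilizer _ b
    have hall : ∀ (ls : List BaseLevel), chainOK SuzSlp.slp 1782 ls = true → ∀ r ∈ ls, ∀ u ∈ r.U,
        u < SuzSlp.slp.K := by
      intro ls
      induction ls with
      | nil => simp
      | cons a as iha =>
        intro hc r hr u hu
        simp only [chainOK, Bool.and_eq_true, List.all_eq_true, Nat.blt_eq, beq_iff_eq] at hc
        rcases List.mem_cons.1 hr with rfl | hr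
        · exact hc.1.1.1.1.2 u hu
        · exact iha hc.2 r hr u hu
    have hK'U : ∀ r ∈ rest, ∀ u ∈ r.U, rho (el u) ∈ K' := fun r hr u hu => by
      refine ⟨hU r (List.mem_cons_of_mem _ hr) u hu, ?_⟩
      show rho (el u) b = b
      apply Fin.ext
      rw [el_spec (hall rest hrest r hr u hu)]
      exact hfix r hr u hu
    obtain ⟨hK', htight⟩ := ih K' hrest hK'U
    have hmem : ∀ (g : List ℕ) (seen : ℕ),
        growOK SuzSlp.slp.tbl (l.U.map fun u => [u]) l.m g seen = true →
        (∀ c : ℕ, seen.testBit c = true → ∃ d ∈ MulAction.orbit K b, (d : ℕ) = c) →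
        ∀ c : ℕ, l.m.testBit c = true → ∃ d ∈ MulAction.orbit K b, (d : ℕ) = c := by
      intro g
      induction g with
      | nil =>
        intro seen hg hseen c hc
        simp only [growOK, beq_iff_eq] at hg
        exact hseen c (hg ▸ hc)
      | cons e g ihg =>
        intro seen hg hseen
        simp only [growOK, Bool.and_eq_true, beq_iff_eq] at hg
        obtain ⟨⟨hbit, he⟩, hg⟩ := hg
        apply ihg _ hg
        intro c hc
        rw [Nat.testBit_lor, Bool.or_eq_true, Nat.testBit_two_pow, decide_eq_true_iff] at hc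
        rcases hc with hc | hc
        · exact hseen c hc
        obtain ⟨d, hd, hdc⟩ := hseen _ hbit
        subst hc
        by_cases hi : fld e 2 < l.U.length
        · refine ⟨rho (el l.U[fld e 2]) d, ?_, ?_⟩
          · obtain ⟨k, rfl⟩ := hd
            exact ⟨⟨_, hU l List.mem_cons_self _ (List.getElem_mem hi)⟩ * k,
              by show (_ * k) • b = _; rw [mul_smul]; rfl⟩
          · rw [el_spec (hUK _ (List.getElem_mem hi)), hdc, ← he]
            simp [List.getD_eq_getElem?_getD, hi, runR_cons, runR]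
        · rw [List.getD_eq_default _ _ (by simp; omega)] at he
          exact ⟨d, hd, hdc.trans he⟩
    have hallm := hmem _ _ hgrow (fun c hc => by
      rw [Nat.testBit_two_pow, decide_eq_true_iff] at hc
      exact ⟨b, MulAction.mem_orbit_self b, hc⟩)
    have hcount : ∀ (k lo : ℕ),
        countIn l.m.testBit lo k =
          ((Finset.Ico lo (lo + k)).filter fun c => l.m.testBit c = true).card := by
      intro k
      induction k with
      | zero => intro lo; simp [countIn]
      | succ k ihk =>
        intro lo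
        have hins : Finset.Ico lo (lo + (k + 1)) =
            insert lo (Finset.Ico (lo + 1) (lo + 1 + k)) := by
          ext; simp; omega
        rw [countIn, ihk, hins, Finset.filter_insert]
        rcases Bool.eq_false_or_eq_true (l.m.testBit lo) with hh | hh <;> simp [hh]
    set S : Set ℕ := ↑((Finset.Ico 0 (0 + 1782)).filter fun c => l.m.testBit c = true) with hS
    have hScard : S.ncard = l.sz := by rw [hS, Set.ncard_coe_finset, ← hcount, hcnt]
    have hsub : S ⊆ Fin.val '' MulAction.orbit K b := by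
      intro c hc
      simp only [hS, Finset.coe_filter, Finset.mem_Ico, Set.mem_setOf_eq] at hc
      obtain ⟨d, hd, hdc⟩ := hallm c hc.2
      exact ⟨d, hd, hdc⟩
    have horb : l.sz ≤ Nat.card (MulAction.orbit K b) := by
      rw [Nat.card_coe_set_eq, ← hScard, ← Set.ncard_image_of_injective (MulAction.orbit K b) Fin.val_injective]
      exact Set.ncard_le_ncard hsub (Set.toFinite _)
    have hst : Nat.card (MulAction.stabilizer K b) = Nat.card K' :=
      Nat.card_congr ⟨fun x => ⟨x.1.1, x.1.2, x.2⟩, fun x => ⟨⟨x.1, x.2.1⟩, x.2.2⟩,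
        fun _ => rfl, fun _ => rfl⟩
    have hcard : Nat.card K = Nat.card (MulAction.orbit K b) * Nat.card K' := by
      rw [← Nat.card_congr (MulAction.orbitProdStabilizerEquivGroup K b), Nat.card_prod, hst]
    refine ⟨by rw [List.map_cons, List.prod_cons, hcard]; exact Nat.mul_le_mul horb hK', fun he g hg => ?_⟩
    rw [List.map_cons, List.prod_cons, hcard] at he
    have hKpos : 0 < Nat.card K' := Nat.card_pos
    have hopos : 0 < Nat.card (MulAction.orbit K b) := by
      haveI : Nonempty (MulAction.orbit K b) := ⟨⟨b, MulAction.mem_orbit_self b⟩⟩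
      exact Nat.card_pos
    have e1 : Nat.card (MulAction.orbit K b) = l.sz := by
      by_contra hne
      have : l.sz * (rest.map BaseLevel.sz).prod < Nat.card (MulAction.orbit K b) * Nat.card K' :=
        lt_of_le_of_lt (Nat.mul_le_mul_left _ hK') ((Nat.mul_lt_mul_right hKpos).2 (by omega))
      omega
    have e2 : (rest.map BaseLevel.sz).prod = Nat.card K' := by
      rw [← e1] at he
      exact Nat.eq_of_mul_eq_mul_left hopos he
    have heq : S = Fin.val '' MulAction.orbit K b := by
      refine Set.eq_of_subset_of_ncard_le hsub ?_ (Set.toFinite _)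
      rw [Set.ncard_image_of_injective _ Fin.val_injective, hScard, ← e1, Nat.card_coe_set_eq]
    have hrec : (∀ c : Fin 1782, (c : ℕ) = l.b → g c = c) → g ∈ K' := fun h =>
      ⟨hg, show g b = b from h b rfl⟩
    constructor
    · intro i hi hfix c hc
      rcases i with _ | i
      · rw [List.getD_cons_zero] at hc ⊢
        rw [show c = b from Fin.ext hc]
        have : ((g b : Fin 1782) : ℕ) ∈ S := heq ▸ ⟨g b, ⟨⟨g, hg⟩, rfl⟩, rfl⟩
        simp only [hS, Finset.coe_filter, Finset.mem_Ico, Set.mem_setOf_eq] at this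
        exact this.2
      · rw [List.getD_cons_succ] at hc ⊢
        refine ((htight e2) g (hrec fun c hc => ?_)).1 i (by simpa using hi) (fun j hj c hc => ?_) c hc
        · exact hfix 0 (Nat.succ_pos _) c (by rw [List.getD_cons_zero]; exact hc)
        · exact hfix (j + 1) (by omega) c (by rw [List.getD_cons_succ]; exact hc)
    · intro hfix
      refine ((htight e2) g (hrec fun c hc => ?_)).2 fun j hj c hc => ?_
      · exact hfix 0 (Nat.succ_pos _) c (by rw [List.getD_cons_zero]; exact hc)
      · exact hfix (j + 1) (by simpa using hj) c (by rw [List.getD_cons_succ]; exact hc)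

/-- The levels. -/
noncomputable def lev (i : ℕ) : BaseLevel := SuzSlp.chain.getD i ⟨0, [], 0, [], 0⟩

/-- The base. -/
def base : List ℕ := [0, 1127, 866, 836]

theorem base_eq : SuzSlp.chain.length = 4 ∧ base = (List.range 4).map fun i => (lev i).b := by
  decide +kernel

/-- Fixing the earlier base points forces the next image into the orbit; fixing all is trivial. -/
theorem sift_spec (a : Sz) :
    (∀ i < 4, (∀ j < i, ∀ c : Fin 1782, (c : ℕ) = base.getD j 0 → rho a c = c) →
      ∀ c : Fin 1782, (c : ℕ) = base.getD i 0 → (lev i).m.testBit (rho a c : Fin 1782) = true) ∧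
    ((∀ j < 4, ∀ c : Fin 1782, (c : ℕ) = base.getD j 0 → rho a c = c) → a = 1) := by
  haveI := finite_Sz
  have hinj : Function.Injective rho := SuzOrd.injective_card.1
  have hK : Nat.card rho.range = 448345497600 := by
    rw [← card_Sz]
    exact (Nat.card_congr (MonoidHom.ofInjective hinj).toEquiv).symm
  have hprod : (SuzSlp.chain.map BaseLevel.sz).prod = 448345497600 := by decide +kernel
  obtain ⟨hlen, hbase⟩ := base_eq
  have h := (chain_tight SuzSlp.chain rho.range SuzSlp.chain_ok (fun l _ u _ => ⟨el u, rfl⟩)).2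
    (hprod.trans hK.symm) (rho a) ⟨a, rfl⟩
  have hb : ∀ i < 4, base.getD i 0 = (lev i).b := by
    intro i hi
    rw [hbase, List.getD_eq_getElem _ _ (by simpa using hi)]
    simp
  refine ⟨fun i hi hfix c hc => h.1 i (hlen ▸ hi) (fun j hj c hc => hfix j hj c ?_) c ?_, fun hfix => hinj ?_⟩
  · rw [hb j (by omega)]; exact hc
  · exact hc.trans (hb i hi)
  · rw [map_one]
    exact h.2 fun j hj c hc => hfix j (hlen ▸ hj) c (by rw [hb j (hlen ▸ hj)]; exact hc)

/-! ### Words -/

/-- The action of a word. -/
noncomputable def ev (w : List ℕ) (c : ℕ) : ℕ := runR SuzSlp.slp.tbl w c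

/-- The letters of a word are in range. -/
def lt56 (w : List ℕ) : Bool := w.all fun x => Nat.blt x 56

/-- The value of a word. -/
noncomputable def wv (w : List ℕ) : Sz := (w.map el).prod

theorem wv_nil : wv [] = 1 := rfl
theorem wv_append (w v : List ℕ) : wv (w ++ v) = wv w * wv v := by simp [wv]
theorem wv_single (i : ℕ) : wv [i] = el i := by simp [wv]

theorem wv_spec {w : List ℕ} (hw : lt56 w = true) (c : Fin 1782) :
    ((rho (wv w) c : Fin 1782) : ℕ) = ev w c :=
  SuzCert.cert.word_val (L := SuzSlp.slp) (el := el) (fun _ hk c => el_spec hk c) w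
    (fun x hx => Nat.blt_eq.mp (List.all_eq_true.1 hw x hx)) c

theorem base_lt : ∀ b ∈ base, b < 1782 := by decide

theorem base_ext {a a' : Sz} (h : ∀ b ∈ base, ∀ c : Fin 1782, (c : ℕ) = b → rho a c = rho a' c) : a = a' := by
  refine (inv_mul_eq_one.1 ((sift_spec (a'⁻¹ * a)).2 fun j hj c hc => ?_)).symm
  rw [map_mul, map_inv, Equiv.Perm.mul_apply, Equiv.Perm.inv_eq_iff_eq]
  refine h _ ?_ c hc
  rw [List.getD_eq_getElem _ _ (show j < base.length from hj)]
  exact List.getElem_mem _

/-- Two words agree. -/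
noncomputable def eqB (w v : List ℕ) : Bool :=
  lt56 w && lt56 v && base.all fun b => Nat.beq (ev w b) (ev v b)

/-- Two words differ. -/
noncomputable def neB (w v : List ℕ) : Bool :=
  lt56 w && lt56 v && !(base.all fun b => Nat.beq (ev w b) (ev v b))

theorem eqB_spec {w v : List ℕ} (h : eqB w v = true) : wv w = wv v := by
  simp only [eqB, Bool.and_eq_true, List.all_eq_true, Nat.beq_eq] at h
  exact base_ext fun b hb c hc => Fin.ext (by rw [wv_spec h.1.1, wv_spec h.1.2, hc, h.2 b hb])

theorem neB_spec {w v : List ℕ} (h : neB w v = true) : wv w ≠ wv v := by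
  simp only [neB, Bool.and_eq_true, Bool.not_eq_true'] at h
  intro e
  have : (base.all fun b => Nat.beq (ev w b) (ev v b)) = true := by
    rw [List.all_eq_true]
    intro b hb
    have h1 := wv_spec h.1.1 ⟨b, base_lt b hb⟩
    have h2 := wv_spec h.1.2 ⟨b, base_lt b hb⟩
    rw [e] at h1
    exact Nat.beq_eq ▸ (h1.symm.trans h2)
  rw [h.2] at this
  exact absurd this (by decide)

/-! ### Intertwining elements -/

/-- A permutation table. -/
def tb (T : List (List ℕ)) (c : ℕ) : ℕ := (T.getD (c / 50) []).getD (c % 50) 0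

/-- Iterate a word. -/
noncomputable def itW (w : List ℕ) (c : ℕ) : ℕ → ℕ
  | 0 => c
  | n + 1 => ev w (itW w c n)

/-- Iterate a table. -/
def itT (T : List (List ℕ)) (c : ℕ) : ℕ → ℕ
  | 0 => c
  | n + 1 => tb T (itT T c n)

variable (S : Srch)

/-- The first checks. -/
noncomputable def headOk : Bool :=
  lt56 S.u && lt56 S.v && lt56 S.kq && Nat.blt S.b 1782 &&
  (List.range 4).all (fun i => Nat.beq (ev S.kq (base.getD i 0)) (itW S.u S.b (S.js.getD i 0))) &&
  allIn (fun x => Nat.beq (tb S.vT x) (ev S.v x)) 0 1782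

/-- The wanted image of a base point. -/
def tgt (c i : ℕ) : ℕ := itT S.vT c (S.js.getD i 0)

/-- The possibility that a point is the image of the anchor is excluded or leads to the listed elements. -/
noncomputable def rowOk (c : ℕ) : Bool :=
  let r := (S.rows.getD (c / 50) []).getD (c % 50) (0, [])
  lt56 r.2 &&
  bif Nat.blt r.1 4 then
    (List.range r.1).all (fun i => Nat.beq (ev r.2 (tgt S c i)) (base.getD i 0)) &&
      !((lev r.1).m.testBit (ev r.2 (tgt S c r.1)))
  else
    (List.range 4).all (fun i => Nat.beq (ev r.2 (itW S.u S.b (S.js.getD i 0))) (tgt S c i)) &&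
      (neB (r.2 ++ S.u) (S.v ++ r.2) || S.known.any fun k => eqB r.2 k)

/-- The test on a range of points. -/
noncomputable def rowsIn (lo n : ℕ) : Bool := allIn (rowOk S) lo n

variable {S}

theorem srch_spec (h1 : headOk S = true) (h2 : ∀ c < 1782, rowOk S c = true)
    {g : Sz} (hg : g * wv S.u = wv S.v * g) : ∃ k ∈ S.known, g = wv k := by
  simp only [headOk, Bool.and_eq_true, Nat.beq_eq, Nat.blt_eq, List.all_eq_true, List.mem_range] at h1
  obtain ⟨⟨⟨⟨⟨hu, hv⟩, hk⟩, hb⟩, hq⟩, hT⟩ := h1
  set B : Fin 1782 := ⟨S.b, hb⟩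
  set c := ((rho g B : Fin 1782) : ℕ) with hc
  have hit : ∀ n, ∃ y : Fin 1782, (y : ℕ) = itW S.u S.b n ∧ ((rho g y : Fin 1782) : ℕ) = itT S.vT c n := by
    intro n
    induction n with
    | zero => exact ⟨B, rfl, rfl⟩
    | succ n ih =>
      obtain ⟨y, hy, hy'⟩ := ih
      refine ⟨rho (wv S.u) y, by rw [wv_spec hu, hy]; rfl, ?_⟩
      rw [← Equiv.Perm.mul_apply, ← map_mul, hg, map_mul, Equiv.Perm.mul_apply, wv_spec hv]
      show ev S.v (rho g y : Fin 1782) = tb S.vT (itT S.vT c n)
      rw [← hy']
      exact (Nat.eq_of_beq_eq_true ((allIn_iff _ _ _).1 hT (rho g y : Fin 1782) (Nat.zero_le _) (by omega))).symm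
  have himg : ∀ i < 4, ∀ x : Fin 1782, (x : ℕ) = base.getD i 0 →
      ((rho g (rho (wv S.kq) x) : Fin 1782) : ℕ) = tgt S c i := by
    intro i hi x hx
    obtain ⟨y, hy, hy'⟩ := hit (S.js.getD i 0)
    rw [show rho (wv S.kq) x = y from Fin.ext (by rw [wv_spec hk, hx, hq i hi, hy])]
    exact hy'
  have hr := h2 c (rho g B).isLt
  simp only [rowOk, Bool.and_eq_true] at hr
  obtain ⟨hw, hr⟩ := hr
  set r := (S.rows.getD (c / 50) []).getD (c % 50) (0, [])
  cases hl : Nat.blt r.1 4
  · rw [hl] at hr
    simp only [cond_false, Bool.and_eq_true, List.all_eq_true, List.mem_range, Nat.beq_eq, Bool.or_eq_true,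
      List.any_eq_true] at hr
    obtain ⟨he, hrest⟩ := hr
    have hge : g = wv r.2 := by
      refine mul_right_cancel (b := wv S.kq) (base_ext fun b hb x hx => Fin.ext ?_)
      obtain ⟨i, hi, rfl⟩ := List.getElem_of_mem hb
      have hi4 : i < 4 := hi
      rw [← List.getD_eq_getElem _ 0 hi] at hx
      rw [map_mul, map_mul, Equiv.Perm.mul_apply, Equiv.Perm.mul_apply, himg i hi4 x hx, wv_spec hw,
        wv_spec hk, hx, hq i hi4, he i hi4]
    rcases hrest with h | ⟨k, hk', hek⟩
    · refine absurd ?_ (neB_spec h)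
      rw [wv_append, wv_append, ← hge, hg]
    · exact ⟨k, hk', hge.trans (eqB_spec hek)⟩
  · rw [hl] at hr
    simp only [cond_true, Bool.and_eq_true, List.all_eq_true, List.mem_range, Nat.beq_eq, Bool.not_eq_true'] at hr
    obtain ⟨hfix, hout⟩ := hr
    have hl4 : r.1 < 4 := Nat.blt_eq.mp hl
    have hlt : base.getD r.1 0 < 1782 := by
      rw [List.getD_eq_getElem _ _ (show r.1 < base.length from hl4)]
      exact base_lt _ (List.getElem_mem _)
    have h := (sift_spec (wv r.2 * g * wv S.kq)).1 r.1 hl4 (fun j hj x hx => Fin.ext ?_) ⟨_, hlt⟩ rfl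
    · rw [map_mul, map_mul, Equiv.Perm.mul_apply, Equiv.Perm.mul_apply, wv_spec hw,
        himg r.1 hl4 ⟨_, hlt⟩ rfl, hout] at h
      exact absurd h (by decide)
    · rw [map_mul, map_mul, Equiv.Perm.mul_apply, Equiv.Perm.mul_apply, wv_spec hw, himg j (by omega) x hx,
        hfix j hj, hx]

end CfsgLib.SuzOut
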