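/-
Kernel checks bounding the automorphisms of the Suzuki group.
-/
import Cfsg.Agent.SuzOut.Checks

set_option autoImplicit false
set_option maxRecDepth 100000
set_option maxHeartbeats 0
set_option Elab.async false

namespace CfsgLib.SuzOut

theorem headY : headOk srchY = true := by decide +kernel
theorem rowsY0 : rowsIn srchY 0 891 = true := by decide +kernel
theorem rowsY1 : rowsIn srchY 891 891 = true := by decide +kernel

end CfsgLib.SuzOut
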