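/-
The outer automorphism group of the Suzuki group has order two.
-/
import Cfsg.Agent.SuzOut.ChkA
import Cfsg.Agent.SuzOut.ChkY
import Cfsg.Agent.SuzOut.ChkR
import Cfsg.Agent.SuzOut.ChkS
import Cfsg.Prelude.Def_KGroupFacts

set_option autoImplicit false
set_option maxRecDepth 100000

namespace CfsgLib.SuzOut

open H29.CosetCert MulAction

theorem wv_repW (w : List ℕ) : ∀ m, wv (repW w m) = wv w ^ m
  | 0 => (pow_zero (wv w)).symm
  | m + 1 => by rw [repW, wv_append, wv_repW w m, pow_succ']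

theorem wv_sub2 (a z : List ℕ) : ∀ r : List ℕ,
    wv (sub2 a z r) = (r.map fun x => bif Nat.beq x 0 then wv a else wv z).prod
  | [] => rfl
  | x :: r => by
    rw [sub2, wv_append, List.map_cons, List.prod_cons, wv_sub2 a z r]
    cases Nat.beq x 0 <;> rfl

/-- The element of order eleven. -/
noncomputable def A : Sz := wv wA
/-- The element normalising its subgroup. -/
noncomputable def Y : Sz := wv wY
/-- The second generator. -/
noncomputable def Z : Sz := wv wZ

theorem facts : wv srchA.u = A ∧ wv srchA.v = A ∧ wv srchY.u = Y ∧ wv srchY.v = Y ^ 3 ∧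
    A ^ 11 = 1 ∧ A ≠ 1 ∧ Y * A = A * A * Y ∧ Z * Y = Y ^ 3 * Z ∧ wv wZ' ≠ Z ∧
    (∀ i < 10, A ^ (i + 1) * Y ≠ Y * A ^ (i + 1)) ∧
    srchA.known.length = 11 ∧ ∀ i < 11, wv (srchA.known.getD i []) = A ^ i := by
  have h := rel_ok
  simp only [relOk, Bool.and_eq_true, List.all_eq_true, List.mem_range, Nat.beq_eq] at h
  obtain ⟨⟨⟨⟨⟨⟨⟨⟨⟨⟨⟨h1, h2⟩, h5⟩, h6⟩, h8⟩, h9⟩, h10⟩, h11⟩, hz⟩, hn⟩, h13⟩, h14⟩ := h
  refine ⟨eqB_spec h1, eqB_spec h2, eqB_spec h5, ?_, ?_, ?_, ?_, ?_, neB_spec hz, ?_, h13, ?_⟩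
  · rw [eqB_spec h6, wv_repW]; rfl
  · have := eqB_spec h8
    rwa [wv_repW, wv_nil] at this
  · have := neB_spec h9
    rwa [wv_nil] at this
  · have := eqB_spec h10
    rwa [wv_append, wv_append, wv_append] at this
  · have := eqB_spec h11
    rwa [wv_append, wv_append, wv_repW] at this
  · intro i hi
    have := neB_spec (hn i hi)
    rwa [wv_append, wv_append, wv_repW] at this
  · intro i hi
    rw [eqB_spec (h14 i hi), wv_repW]; rfl

theorem el_gen : ∀ x, x < 7 → el x = SuzCert.g x := by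
  intro x hx
  have hinj : Function.Injective rho := SuzOrd.injective_card.1
  refine hinj (Equiv.ext fun c => Fin.ext ?_)
  rw [el_spec (by omega), show rho (SuzCert.g x) = permOf 1782 (SuzData.T x) from SuzCert.ρ_g x,
    permOf_val (SuzCert.T_all x)]
  have h := (allIn_iff _ _ _).1 SuzSlp.entries_ok x (Nat.zero_le _) (show x < 0 + 56 by omega)
  have hb : Nat.blt x SuzSlp.slp.ng = true := by rw [Nat.blt_eq]; exact hx
  simp only [Slp.entryOK, hb, cond_true] at h
  exact beq_iff_eq.1 ((allIn_iff _ _ _).1 h c (Nat.zero_le _) (by omega))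

theorem closure_AZ : Subgroup.closure {A, Z} = (⊤ : Subgroup Sz) := by
  refine eq_top_iff.2 ((SuzCert.cert.g_gen).symm.le.trans ((Subgroup.closure_le _).2 ?_))
  rintro _ ⟨x, rfl⟩
  show SuzCert.g x ∈ _
  by_cases hx : x < 7
  · have h := gen_ok
    simp only [genOk, List.all_eq_true, List.mem_range] at h
    rw [← el_gen x hx, ← wv_single x, ← eqB_spec (h x hx), wv_sub2]
    refine list_prod_mem fun e he => ?_
    obtain ⟨y, -, rfl⟩ := List.mem_map.1 he
    cases Nat.beq y 0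
    · exact Subgroup.subset_closure (Set.mem_insert_of_mem _ rfl)
    · exact Subgroup.subset_closure (Set.mem_insert _ _)
  · rw [show SuzCert.g x = 1 from genAt_high _ _ SuzCert.L x (by simpa using (by omega : 7 ≤ x))]
    exact one_mem _

theorem hom_ext {f f' : MulAut Sz} (hA : f A = f' A) (hZ : f Z = f' Z) : f = f' :=
  MulEquiv.toMonoidHom_injective (MonoidHom.eq_of_eqOn_dense closure_AZ (by
    rintro _ (rfl | rfl)
    exacts [hA, hZ]))

/-- The permutation of the points. -/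
noncomputable def sigma : Equiv.Perm (Fin 1782) where
  toFun c := ⟨tb sigT c, by
    have h := List.all_eq_true.1 sig_bij c (List.mem_range.2 c.isLt)
    simp only [Bool.and_eq_true, Nat.blt_eq] at h
    exact h.1.1.1⟩
  invFun c := ⟨tb sigI c, by
    have h := List.all_eq_true.1 sig_bij c (List.mem_range.2 c.isLt)
    simp only [Bool.and_eq_true, Nat.blt_eq] at h
    exact h.1.1.2⟩
  left_inv c := Fin.ext (by
    have h := List.all_eq_true.1 sig_bij c (List.mem_range.2 c.isLt)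
    simp only [Bool.and_eq_true, Nat.beq_eq] at h
    exact h.1.2)
  right_inv c := Fin.ext (by
    have h := List.all_eq_true.1 sig_bij c (List.mem_range.2 c.isLt)
    simp only [Bool.and_eq_true, Nat.beq_eq] at h
    exact h.2)

theorem sigma_conj {w w' : List ℕ} (hw : lt56 w = true) (hw' : lt56 w' = true)
    (h : sigConj w w' 0 1782 = true) : rho (wv w') = sigma * rho (wv w) * sigma⁻¹ := by
  rw [eq_mul_inv_iff_mul_eq]
  refine Equiv.ext fun c => Fin.ext ?_
  rw [Equiv.Perm.mul_apply, Equiv.Perm.mul_apply, wv_spec hw']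
  show ev w' (tb sigT c) = tb sigT (rho (wv w) c : Fin 1782)
  rw [wv_spec hw]
  exact (Nat.eq_of_beq_eq_true ((allIn_iff _ _ _).1 h c (Nat.zero_le _) (by omega))).symm

theorem exists_theta : ∃ θ : MulAut Sz, θ A = A ∧ θ Y = Y ∧ θ Z = wv wZ' := by
  haveI := finite_Sz
  have lA : lt56 wA = true := by decide +kernel
  have lY : lt56 wY = true := by decide +kernel
  have lZ : lt56 wZ = true := by decide +kernel
  have lZ' : lt56 wZ' = true := by decide +kernel
  have eA : rho A = sigma * rho A * sigma⁻¹ := sigma_conj lA lA sigA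
  have eY : rho Y = sigma * rho Y * sigma⁻¹ := sigma_conj lY lY sigY
  have eZ : rho (wv wZ') = sigma * rho Z * sigma⁻¹ := sigma_conj lZ lZ' sigZ
  let c : Sz →* Equiv.Perm (Fin 1782) := (MulAut.conj sigma).toMonoidHom.comp rho
  have hall : ∀ g : Sz, c g ∈ rho.range := by
    have : Subgroup.closure {A, Z} ≤ rho.range.comap c := (Subgroup.closure_le _).2 (by
      rintro _ (rfl | rfl)
      exacts [⟨A, eA⟩, ⟨wv wZ', eZ⟩])
    rw [closure_AZ] at this
    exact fun g => this (Subgroup.mem_top g)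
  have hinj : Function.Injective rho := SuzOrd.injective_card.1
  let e := MonoidHom.ofInjective hinj
  let f : Sz →* Sz := e.symm.toMonoidHom.comp (c.codRestrict rho.range hall)
  have hf : Function.Injective f := by
    refine e.symm.injective.comp fun a b hab => ?_
    have h : c a = c b := congrArg Subtype.val hab
    exact hinj ((MulAut.conj sigma).injective h)
  refine ⟨MulEquiv.ofBijective f (Finite.injective_iff_bijective.1 hf), ?_, ?_, ?_⟩
  · refine hinj ?_
    show rho (e.symm _) = _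
    rw [MonoidHom.apply_ofInjective_symm]
    exact eA.symm
  · refine hinj ?_
    show rho (e.symm _) = _
    rw [MonoidHom.apply_ofInjective_symm]
    exact eY.symm
  · refine hinj ?_
    show rho (e.symm _) = _
    rw [MonoidHom.apply_ofInjective_symm]
    exact eZ.symm

theorem rows_all {S : Srch} (h0 : rowsIn S 0 891 = true) (h1 : rowsIn S 891 891 = true) :
    ∀ c < 1782, rowOk S c = true := by
  intro c hc
  rcases Nat.lt_or_ge c 891 with h | h
  · exact (allIn_iff _ _ _).1 h0 c (Nat.zero_le _) (by omega)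
  · exact (allIn_iff _ _ _).1 h1 c h (by omega)

/-- An element commuting with the element of order eleven is one of its powers. -/
theorem centA {g : Sz} (hg : g * A = A * g) : ∃ i < 11, g = A ^ i := by
  obtain ⟨hu, hv, -, -, -, -, -, -, -, -, hlen, hk⟩ := facts
  obtain ⟨k, hk', rfl⟩ := srch_spec headA (rows_all rowsA0 rowsA1) (g := g) (by rw [hu, hv]; exact hg)
  obtain ⟨i, hi, rfl⟩ := List.getElem_of_mem hk'
  refine ⟨i, hlen ▸ hi, ?_⟩
  rw [← hk i (hlen ▸ hi), List.getD_eq_getElem _ _ hi]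

theorem mk_eq_of_conj (g : Sz) (φ : MulAut Sz) :
    (QuotientGroup.mk (MulAut.conj g * φ) : Cfsg.Out Sz) = QuotientGroup.mk φ := by
  refine QuotientGroup.eq.2 ⟨φ.symm g⁻¹, MulEquiv.ext fun x => ?_⟩
  show φ.symm g⁻¹ * x * (φ.symm g⁻¹)⁻¹ = (MulAut.conj g * φ)⁻¹ (φ x)
  apply (MulAut.conj g * φ).injective
  rw [MulAut.apply_inv_self]
  simp [MulAut.mul_apply, MulAut.conj_apply, mul_assoc]

theorem killed {ψ : MulAut Sz} {a c : List ℕ} {V : List ℕ × ℕ} (h : killOk a c V = true)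
    (ha : ψ A = wv a) (hc : ψ Z = wv c) : False := by
  simp only [killOk, Bool.and_eq_true] at h
  have h1 := eqB_spec h.1
  refine neB_spec h.2 ?_
  rw [wv_nil, wv_repW] at h1 ⊢
  have h2 := congrArg ψ h1
  rw [map_pow, map_one, wv_sub2, map_list_prod, List.map_map] at h2
  rw [wv_sub2]
  refine Eq.trans ?_ h2
  refine congrArg (· ^ V.2) (congrArg List.prod (List.map_congr_left fun y _ => ?_))
  show (bif Nat.beq y 0 then wv a else wv c) = ψ (bif Nat.beq y 0 then A else Z)
  cases Nat.beq y 0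
  · exact hc.symm
  · exact ha.symm

theorem card_out_Suz : Nat.card (Cfsg.Out Sz) = 2 := by
  classical
  haveI := finite_Sz
  obtain ⟨-, -, hYu, hYv, hpow, hA, hYA, hZY, hzz, hncomm, -, -⟩ := facts
  obtain ⟨θ, hθA, hθY, hθZ⟩ := exists_theta
  haveI : Fact (Nat.Prime 11) := ⟨by norm_num⟩
  have hoA : orderOf A = 11 := orderOf_eq_prime hpow hA
  have hA2 : ∀ n : ℕ, Y * A ^ n = A ^ (2 * n) * Y := by
    intro n
    induction n with
    | zero => simp
    | succ n ih =>
      rw [pow_succ, ← mul_assoc, ih, mul_assoc, hYA, show A * A * Y = A ^ 2 * Y by rw [pow_two], ← mul_assoc,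
        ← pow_add, Nat.mul_succ]
  have hYm : ∀ m n : ℕ, Y ^ m * A ^ n = A ^ (2 ^ m * n) * Y ^ m := by
    intro m
    induction m with
    | zero => intro n; simp
    | succ m ih =>
      intro n
      rw [pow_succ, mul_assoc, hA2, ← mul_assoc, ih, mul_assoc, ← pow_succ, ← mul_assoc]
      ring_nf
  have hmod : ∀ {a b : ℕ}, a % 11 = b % 11 → A ^ a = A ^ b := fun {a b} hab =>
    pow_eq_pow_iff_modEq.2 (by rw [hoA]; exact hab)
  have hnot : (QuotientGroup.mk θ : Cfsg.Out Sz) ≠ 1 := by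
    intro e
    obtain ⟨g, hg⟩ := (QuotientGroup.eq_one_iff _).1 e
    have hfix : ∀ x : Sz, θ x = g * x * g⁻¹ := fun x => by
      rw [← hg]; rfl
    have hgA : g * A = A * g := by
      have h := hfix A
      rw [hθA, eq_mul_inv_iff_mul_eq] at h
      exact h.symm
    obtain ⟨i, hi, rfl⟩ := centA hgA
    rcases i with _ | i
    · refine hzz ?_
      rw [← hθZ, hfix Z, pow_zero, one_mul, inv_one, mul_one]
    · refine hncomm i (by omega) ?_
      have h := hfix Y
      rw [hθY, eq_mul_inv_iff_mul_eq] at h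
      exact h.symm
  refine Nat.card_eq_two_iff.2 ⟨1, QuotientGroup.mk θ, hnot.symm, Set.eq_univ_of_forall fun x => ?_⟩
  obtain ⟨φ, rfl⟩ := QuotientGroup.mk_surjective x
  -- move the subgroup of order eleven back
  have hfac : (Nat.card Sz).factorization 11 = 1 := by
    rw [card_Sz]
    have h : (448345497600 : ℕ) = 11 * 40758681600 := by norm_num
    rw [h, Nat.factorization_mul (by norm_num) (by norm_num), Finsupp.add_apply,
      Nat.Prime.factorization_self (by norm_num), Nat.factorization_eq_zero_of_not_dvd (by norm_num)]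
  have hsyl : ∀ y : Sz, orderOf y = 11 →
      Nat.card (Subgroup.zpowers y) = 11 ^ (Nat.card Sz).factorization 11 := fun y hy => by
    rw [Nat.card_zpowers, hy, hfac, pow_one]
  have hoA' : orderOf (φ A) = 11 := by rw [MulEquiv.orderOf_eq]; exact hoA
  obtain ⟨g1, hg1⟩ := MulAction.exists_smul_eq Sz (Sylow.ofCard _ (hsyl A hoA)) (Sylow.ofCard _ (hsyl _ hoA'))
  have hin : g1⁻¹ * φ A * g1 ∈ Subgroup.zpowers A := by
    have h : φ A ∈ ((g1 • Sylow.ofCard _ (hsyl A hoA) : Sylow 11 Sz) : Subgroup Sz) := by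
      rw [hg1]; exact Subgroup.mem_zpowers _
    rw [Sylow.coe_subgroup_smul, Subgroup.mem_pointwise_smul_iff_inv_smul_mem] at h
    simpa [MulAut.smul_def] using h
  rw [mem_zpowers_iff_mem_range_orderOf, Finset.mem_image] at hin
  obtain ⟨j, hj, hje⟩ := hin
  rw [Finset.mem_range, hoA] at hj
  have hj0 : j ≠ 0 := by
    rintro rfl
    rw [pow_zero] at hje
    have h2 : φ A = 1 := by
      have := congrArg (fun y => g1 * y * g1⁻¹) hje
      simpa [mul_assoc] using this.symm
    rw [h2, orderOf_one] at hoA'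
    norm_num at hoA'
  have hco : ∀ j : Fin 11, (j : ℕ) ≠ 0 → ∃ m : Fin 10, 2 ^ (m : ℕ) * (j : ℕ) % 11 = 1 := by
    decide
  obtain ⟨m, hm⟩ := hco ⟨j, hj⟩ hj0
  set ψ0 := MulAut.conj (Y ^ (m : ℕ) * g1⁻¹) * φ with hψ0
  have hA0 : ψ0 A = A := by
    show Y ^ (m : ℕ) * g1⁻¹ * φ A * (Y ^ (m : ℕ) * g1⁻¹)⁻¹ = _
    rw [show Y ^ (m : ℕ) * g1⁻¹ * φ A * (Y ^ (m : ℕ) * g1⁻¹)⁻¹ =
      Y ^ (m : ℕ) * (g1⁻¹ * φ A * g1) * (Y ^ (m : ℕ))⁻¹ by group, ← hje, hYm, mul_inv_cancel_right,
      hmod (show 2 ^ (m : ℕ) * j % 11 = 1 % 11 from hm), pow_one]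
  -- the image of the normalising element
  set d := Y⁻¹ * ψ0 Y with hd
  have hdA : d * A = A * d := by
    have h1 := congrArg ψ0 hYA
    rw [map_mul, map_mul, map_mul, hA0, ← pow_two] at h1
    show Y⁻¹ * ψ0 Y * A = A * (Y⁻¹ * ψ0 Y)
    rw [mul_assoc, h1, ← mul_assoc, ← mul_assoc]
    congr 1
    rw [inv_mul_eq_iff_eq_mul, ← mul_assoc]
    have := hA2 1
    rw [pow_one, mul_one] at this
    rw [this, mul_inv_cancel_right]
  obtain ⟨i, -, hdi⟩ := centA hdA
  set ψ := MulAut.conj (A ^ (2 * i)) * ψ0 with hψ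
  have hψA : ψ A = A := by
    show A ^ (2 * i) * ψ0 A * (A ^ (2 * i))⁻¹ = _
    rw [hA0, ← pow_succ, pow_succ', mul_inv_cancel_right]
  have hψY : ψ Y = Y := by
    show A ^ (2 * i) * ψ0 Y * (A ^ (2 * i))⁻¹ = Y
    rw [show ψ0 Y = Y * A ^ i by rw [← hdi, hd, mul_inv_cancel_left], ← mul_assoc, ← hA2, mul_assoc Y, ← pow_add,
      ← two_mul, mul_inv_cancel_right]
  have hψZ : ψ Z * Y = Y ^ 3 * ψ Z := by
    have h1 := congrArg ψ hZY
    rwa [map_mul, map_mul, map_pow, hψY] at h1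
  obtain ⟨k, hk, hkZ⟩ := srch_spec headY (rows_all rowsY0 rowsY1) (g := ψ Z) (by rw [hYu, hYv]; exact hψZ)
  obtain ⟨n, hn, rfl⟩ := List.getElem_of_mem hk
  obtain ⟨hl, hzi, hzo⟩ := known_len
  have hn20 : n < 20 := hl ▸ hn
  rw [← List.getD_eq_getElem _ [] hn] at hkZ
  have hres : ψ = 1 ∨ ψ = θ := by
    have h := List.all_eq_true.1 one_ok n (List.mem_range.2 hn20)
    rw [Bool.or_eq_true, Bool.or_eq_true, Nat.beq_eq, Nat.beq_eq] at h
    rcases h with (h | h) | h
    · refine Or.inl (hom_ext (by rw [hψA]; rfl) ?_)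
      rw [hkZ, h]
      rfl
    · refine Or.inr (hom_ext (by rw [hψA, hθA]) ?_)
      rw [hkZ, h, hθZ]
      rfl
    · exact (killed h (by rw [hψA]; rfl) hkZ).elim
  have hmk : (QuotientGroup.mk φ : Cfsg.Out Sz) = QuotientGroup.mk ψ := by
    rw [hψ, mk_eq_of_conj, hψ0, mk_eq_of_conj]
  rcases hres with h | h
  · exact Or.inl (by rw [hmk, h]; rfl)
  · exact Or.inr (by rw [hmk, h]; rfl)

end CfsgLib.SuzOut
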